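import Groth.Agent.SymChart.Flat
import Groth.Agent.PolLib.InvBaseChange
import Groth.Agent.AmpleX.BaseChange
import Groth.Agent.SGA1Q.Affine
import Mathlib.AlgebraicGeometry.Morphisms.Flat

/-! # Base change of symmetric products -/

set_option autoImplicit false
set_option backward.isDefEq.respectTransparency false
set_option backward.isDefEq.respectTransparency.types false
set_option linter.style.haveILetI false
set_option maxHeartbeats 2000000

universe u

open CategoryTheory CategoryTheory.Limits AlgebraicGeometry TopologicalSpace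
open SymProd
open scoped TensorProduct

namespace Groth.Agent.SymChart

variable {X S S' : Scheme.{u}} (f : X ⟶ S) (d : ℕ) (b : S' ⟶ S)
  {c : fibPow (pullback.snd f b) d ⟶ fibPow f d}
  (hcπ : ∀ i : Fin d, c ≫ WidePullback.π (fun _ => f) i =
    WidePullback.π (fun _ => pullback.snd f b) i ≫ pullback.fst f b)
  (hcb : c ≫ WidePullback.base (fun _ => f) = WidePullback.base (fun _ => pullback.snd f b) ≫ b)

include hcπ hcb in
theorem isPullback_fibPow :
    IsPullback c (WidePullback.base (fun _ : Fin d => pullback.snd f b)) (WidePullback.base (fun _ : Fin d => f)) b := by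
  refine IsPullback.of_isLimit' ⟨hcb⟩ (PullbackCone.IsLimit.mk _
    (fun s => WidePullback.lift s.snd (fun i => pullback.lift (s.fst ≫ WidePullback.π (fun _ => f) i) s.snd
      (by rw [Category.assoc, WidePullback.π_arrow]; exact s.condition)) fun i => pullback.lift_snd _ _ _)
    (fun s => ?_) (fun s => WidePullback.lift_base _ _ _ _) fun s m h1 h2 => ?_)
  · refine WidePullback.hom_ext _ _ _ (fun i => ?_) ?_
    · rw [Category.assoc, hcπ, WidePullback.lift_π_assoc, pullback.lift_fst]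
    · rw [Category.assoc, hcb, WidePullback.lift_base_assoc]
      exact s.condition.symm
  · refine WidePullback.hom_ext _ _ _ (fun i => ?_) ?_
    · rw [WidePullback.lift_π]
      refine pullback.hom_ext ?_ ?_
      · rw [pullback.lift_fst, Category.assoc, ← hcπ, ← Category.assoc, h1]
      · rw [pullback.lift_snd, Category.assoc, WidePullback.π_arrow (fun _ : Fin d => pullback.snd f b) i, h2]
    · rw [WidePullback.lift_base, h2]

include hcπ hcb in
theorem permHom_comp (σ : Equiv.Perm (Fin d)) :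
    permHom (pullback.snd f b) d σ ≫ c = c ≫ permHom f d σ := by
  refine WidePullback.hom_ext _ _ _ (fun i => ?_) ?_
  · rw [Category.assoc, Category.assoc, hcπ, permHom_π, hcπ, permHom_π_assoc]
  · rw [Category.assoc, Category.assoc, hcb, permHom_base, hcb, permHom_base_assoc]

variable {Y : Scheme.{u}} {q : fibPow f d ⟶ Y} {g : Y ⟶ S}
  {q' : fibPow (pullback.snd f b) d ⟶ pullback g b}
  (hq'₁ : q' ≫ pullback.fst g b = c ≫ q)
  (hq'₂ : q' ≫ pullback.snd g b = WidePullback.base (fun _ => pullback.snd f b))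

include hcπ hcb hq'₁ hq'₂ in
/-- The sections of the base change of the quotient of a box are the invariant sections. -/
theorem baseChange_chart [Flat f] (hq : IsSymProd f d q g)
    {U : X.Opens} {V : S.Opens} (hU : IsAffineOpen U) (hV : IsAffineOpen V) (hle : U ≤ f ⁻¹ᵁ V)
    (W' : Y.Opens) (hW'a : IsAffineOpen W') (e : W' ≤ g ⁻¹ᵁ V) (hW' : q ⁻¹ᵁ W' = box f d U V)
    (V' : S'.Opens) (hV' : IsAffineOpen V') (hV'le : V' ≤ b ⁻¹ᵁ V) :
    let U'' := pullback.fst g b ⁻¹ᵁ W' ⊓ pullback.snd g b ⁻¹ᵁ V'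
    Function.Injective (q'.app U'').hom ∧
      ∀ z : Γ(fibPow (pullback.snd f b) d, q' ⁻¹ᵁ U''),
        (∀ (σ : Equiv.Perm (Fin d)) (e' : q' ⁻¹ᵁ U'' ≤ permHom (pullback.snd f b) d σ ⁻¹ᵁ (q' ⁻¹ᵁ U'')),
          ((permHom (pullback.snd f b) d σ).appLE _ _ e').hom z = z) → z ∈ Set.range (q'.app U'').hom := by
  intro U''
  classical
  have hW := isAffineOpen_box f d hU hV hle
  rw [← hW'] at hW
  let W := q ⁻¹ᵁ W'
  let base := WidePullback.base (fun _ : Fin d => f)
  let pr : Fin d → (fibPow f d ⟶ X) := fun i => WidePullback.π (fun _ : Fin d => f) i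
  have hpr : ∀ i, pr i ≫ f = base := fun i => WidePullback.π_arrow _ i
  have hmem : ∀ z ∈ W, base z ∈ V ∧ ∀ i, pr i z ∈ U := fun z hz => (mem_box f d).1 (hW' ▸ hz)
  have hWi : ∀ i, W ≤ pr i ⁻¹ᵁ U := fun i z hz => (hmem z hz).2 i
  have hWb : W ≤ base ⁻¹ᵁ V := fun z hz => (hmem z hz).1
  let _ : Algebra Γ(S, V) Γ(X, U) := (f.appLE V U hle).hom.toAlgebra
  let _ : Algebra Γ(S, V) Γ(fibPow f d, W) := (base.appLE V W hWb).hom.toAlgebra
  let _ : Algebra Γ(S, V) Γ(Y, W') := (g.appLE V W' e).hom.toAlgebra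
  haveI hflat : Module.Flat Γ(S, V) Γ(X, U) := HasRingHomProperty.appLE @Flat f ‹_› ⟨V, hV⟩ ⟨U, hU⟩ hle
  let ι : Fin d → (Γ(X, U) →ₐ[Γ(S, V)] Γ(fibPow f d, W)) := fun i =>
    { ((pr i).appLE U W (hWi i)).hom with
      commutes' := fun a => by
        show ((f.appLE V U hle) ≫ (pr i).appLE U W (hWi i)).hom a = (base.appLE V W hWb).hom a
        rw [Scheme.Hom.appLE_comp_appLE]
        simp only [hpr] }
  let Φ : (⨂[Γ(S, V)] _ : Fin d, Γ(X, U)) →ₐ[Γ(S, V)] Γ(fibPow f d, W) :=
    PiTensorProduct.liftAlgHom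
      ((MultilinearMap.mkPiAlgebra Γ(S, V) (Fin d) Γ(fibPow f d, W)).compLinearMap fun i => (ι i).toLinearMap)
      (by simp) (fun x y => by simp [Finset.prod_mul_distrib])
  have hΦ : ∀ b : Fin d → Γ(X, U), Φ (PiTensorProduct.tprod _ b) = ∏ i, ι i (b i) := fun b => by
    simp [Φ]
  have hΦs : ∀ i, Φ.comp (PiTensorProduct.singleAlgHom i) = ι i := fun i => AlgHom.ext fun a => by
    simp only [AlgHom.comp_apply, PiTensorProduct.singleAlgHom_apply, MonoidHom.mulSingle_apply, hΦ]
    rw [Finset.prod_eq_single i (fun j _ hj => by rw [Pi.mulSingle_eq_of_ne hj, map_one])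
      (fun h => absurd (Finset.mem_univ i) h), Pi.mulSingle_eq_same]
  let T := ⨂[Γ(S, V)] _ : Fin d, Γ(X, U)
  let sgl : Fin d → (Γ(X, U) ⟶ CommRingCat.of T) := fun i =>
    CommRingCat.ofHom (PiTensorProduct.singleAlgHom (R := Γ(S, V)) (A := fun _ : Fin d => Γ(X, U)) i).toRingHom
  let cT : Spec (CommRingCat.of T) ⟶ fibPow f d :=
    WidePullback.lift (Spec.map (CommRingCat.ofHom (algebraMap Γ(S, V) T)) ≫ hV.fromSpec)
      (fun i => Spec.map (sgl i) ≫ hU.fromSpec) fun i => by
        rw [Category.assoc, ← IsAffineOpen.SpecMap_appLE_fromSpec f hV hU hle, ← Category.assoc,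
          ← Spec.map_comp]
        congr 2
        ext1
        exact AlgHom.comp_algebraMap (PiTensorProduct.singleAlgHom (R := Γ(S, V)) (A := fun _ : Fin d => Γ(X, U)) i)
  have hcT : Set.range cT ⊆ Set.range hW.fromSpec := by
    rintro _ ⟨z, rfl⟩
    rw [hW.range_fromSpec, hW']
    refine (mem_box f d).2 ⟨?_, fun i => ?_⟩
    · rw [← Scheme.Hom.comp_apply, WidePullback.lift_base, Scheme.Hom.comp_apply, ← SetLike.mem_coe,
        ← hV.range_fromSpec]
      exact ⟨_, rfl⟩
    · rw [← Scheme.Hom.comp_apply, WidePullback.lift_π, Scheme.Hom.comp_apply, ← SetLike.mem_coe,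
        ← hU.range_fromSpec]
      exact ⟨_, rfl⟩
  obtain ⟨ψ, hψ⟩ := Spec.map_surjective (IsOpenImmersion.lift hW.fromSpec cT hcT)
  have hψc : Spec.map ψ ≫ hW.fromSpec = cT := by rw [hψ, IsOpenImmersion.lift_fac]
  have hψι : ∀ i, (pr i).appLE U W (hWi i) ≫ ψ = sgl i := fun i => by
    apply Spec.map_injective
    rw [← cancel_mono hU.fromSpec, Spec.map_comp, Category.assoc,
      IsAffineOpen.SpecMap_appLE_fromSpec (pr i) hU hW (hWi i), ← Category.assoc, hψc, WidePullback.lift_π]
  have hψb : base.appLE V W hWb ≫ ψ = CommRingCat.ofHom (algebraMap Γ(S, V) T) := by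
    apply Spec.map_injective
    rw [← cancel_mono hV.fromSpec, Spec.map_comp, Category.assoc,
      IsAffineOpen.SpecMap_appLE_fromSpec base hV hW hWb, ← Category.assoc, hψc, WidePullback.lift_base]
  let ψA : Γ(fibPow f d, W) →ₐ[Γ(S, V)] T :=
    { ψ.hom with commutes' := fun a => congrArg (fun m => m.hom a) hψb }
  have h₁ : ψA.comp Φ = AlgHom.id _ _ := by
    refine PiTensorProduct.algHom_ext fun i => ?_
    rw [AlgHom.comp_assoc, hΦs]
    exact AlgHom.ext fun a => congrArg (fun m => m.hom a) (hψι i)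
  have h₂ : ψ ≫ CommRingCat.ofHom Φ.toRingHom = 𝟙 _ := by
    apply Spec.map_injective
    rw [← cancel_mono hW.fromSpec, Spec.map_comp, Category.assoc, hψc, Spec.map_id]
    refine Eq.trans ?_ (Category.id_comp _).symm
    refine WidePullback.hom_ext _ _ _ (fun i => ?_) ?_
    · rw [Category.assoc, WidePullback.lift_π, ← Category.assoc, ← Spec.map_comp,
        ← IsAffineOpen.SpecMap_appLE_fromSpec (pr i) hU hW (hWi i)]
      congr 2
      ext1
      exact congrArg AlgHom.toRingHom (hΦs i)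
    · rw [Category.assoc, WidePullback.lift_base, ← Category.assoc, ← Spec.map_comp,
        ← IsAffineOpen.SpecMap_appLE_fromSpec base hV hW hWb]
      congr 2
      ext1
      exact Φ.comp_algebraMap
  have hbij : Function.Bijective Φ := ⟨fun a b h => by
      have := congrArg ψA h
      rwa [← AlgHom.comp_apply, ← AlgHom.comp_apply, h₁] at this,
    fun w => ⟨ψA w, congrArg (fun m => m.hom w) h₂⟩⟩
  have hperm : ∀ (σ : Equiv.Perm (Fin d)) (e' : W ≤ permHom f d σ ⁻¹ᵁ W) (t : T),
      ((permHom f d σ).appLE W W e').hom (Φ t) =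
        Φ (PiTensorProduct.reindex Γ(S, V) (fun _ : Fin d => Γ(X, U)) σ⁻¹ t) := by
    intro σ e' t
    induction t using PiTensorProduct.induction_on with
    | smul_tprod r b =>
      have hr : ((permHom f d σ).appLE W W e').hom (algebraMap Γ(S, V) Γ(fibPow f d, W) r) =
          algebraMap Γ(S, V) Γ(fibPow f d, W) r := by
        show (base.appLE V W hWb ≫ (permHom f d σ).appLE W W e').hom r = (base.appLE V W hWb).hom r
        rw [Scheme.Hom.appLE_comp_appLE]
        simp only [base, permHom_base]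
      simp only [map_smul, PiTensorProduct.reindex_tprod]
      rw [hΦ, hΦ, Algebra.smul_def, Algebra.smul_def, map_mul, hr, map_prod]
      congr 1
      have key : ∀ i, ((permHom f d σ).appLE W W e').hom (ι i (b i)) = ι (σ⁻¹ i) (b i) := fun i => by
        show ((pr i).appLE U W (hWi i) ≫ (permHom f d σ).appLE W W e').hom (b i) =
          ((pr (σ⁻¹ i)).appLE U W (hWi _)).hom (b i)
        rw [Scheme.Hom.appLE_comp_appLE]
        simp only [pr, permHom_π]
        rfl
      simp only [key]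
      exact Fintype.prod_equiv σ⁻¹ _ _ fun i => by simp [Equiv.Perm.inv_def]
    | add a b ha hb => simp only [map_add, ha, hb]
  let E : (⨂[Γ(S, V)] _ : Fin d, Γ(X, U)) ≃ₐ[Γ(S, V)] Γ(fibPow f d, W) := AlgEquiv.ofBijective Φ hbij
  let L : Γ(Y, W') →ₗ[Γ(S, V)] Γ(fibPow f d, W) :=
    { toFun := fun a => (q.app W').hom a
      map_add' := fun a b => map_add _ a b
      map_smul' := fun r a => by
        show (q.app W').hom (r • a) = r • (q.app W').hom a
        rw [Algebra.smul_def, Algebra.smul_def, map_mul]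
        congr 1
        show (g.appLE V W' e ≫ q.app W').hom r = (base.appLE V W hWb).hom r
        rw [Scheme.Hom.app_eq_appLE, Scheme.Hom.appLE_comp_appLE]
        simp only [base, hq.over]
        rfl }
  have hrange : ∀ t, Φ t ∈ Set.range L ↔ t ∈ PolLib.invSub Γ(S, V) Γ(X, U) d := by
    intro t
    rw [PolLib.mem_invSub, show Set.range L = Set.range (q.app W').hom from rfl, hq.isQuot.range_iff W' (Φ t)]
    constructor
    · intro h σ
      have := h ⟨σ⁻¹⟩
      simp only [permActU_hom] at this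
      exact hbij.1 (by simpa using (hperm σ⁻¹ _ t).symm.trans this)
    · intro h σ
      simp only [permActU_hom]
      rw [hperm, h]
  let M : Γ(Y, W') →ₗ[Γ(S, V)] PolLib.invSub Γ(S, V) Γ(X, U) d :=
    (E.symm.toLinearMap ∘ₗ L).codRestrict _ fun a => (hrange _).1 ⟨a, (E.apply_symm_apply _).symm⟩
  have hM : Function.Bijective M := by
    refine ⟨fun a b h => hq.isQuot.injective W' (E.symm.injective (congrArg Subtype.val h)), fun t => ?_⟩
    obtain ⟨a, ha⟩ := (hrange t.1).2 t.2
    exact ⟨a, Subtype.ext ((congrArg E.symm ha).trans (E.symm_apply_apply _))⟩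
  let f' := pullback.snd f b
  let base' := WidePullback.base (fun _ : Fin d => f')
  let Q := q' ⁻¹ᵁ U''
  have hQ : Q = c ⁻¹ᵁ W ⊓ base' ⁻¹ᵁ V' := by
    refine Opens.ext (Set.ext fun z => ?_)
    show (pullback.fst g b (q' z) ∈ W' ∧ pullback.snd g b (q' z) ∈ V') ↔ (q (c z) ∈ W' ∧ base' z ∈ V')
    simp only [← Scheme.Hom.comp_apply, hq'₁, hq'₂, base', f']
  have hU'fst : U'' ≤ pullback.fst g b ⁻¹ᵁ W' := inf_le_left
  have hU'snd : U'' ≤ pullback.snd g b ⁻¹ᵁ V' := inf_le_right
  have hQc : Q ≤ c ⁻¹ᵁ W := hQ.le.trans inf_le_left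
  have hQb : Q ≤ base' ⁻¹ᵁ V' := hQ.le.trans inf_le_right
  have hbase : WidePullback.base (fun _ : Fin d => f) = base := rfl
  have hpoC := (isIso_pushoutSection_iff (IsPullback.of_hasPullback g b) hV'le e (UY := U'') rfl).1
    (isIso_pushoutSection_of_isAffineOpen (IsPullback.of_hasPullback g b) hV'le e (UY := U'') rfl hV hV' hW'a)
  have hpoD := (isIso_pushoutSection_iff (isPullback_fibPow f d b hcπ hcb) hV'le hWb hQ).1
    (isIso_pushoutSection_of_isAffineOpen (isPullback_fibPow f d b hcπ hcb) hV'le hWb hQ hV hV' hW)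
  letI algR := (b.appLE V V' hV'le).hom.toAlgebra
  letI algCC := ((pullback.fst g b).appLE W' U'' hU'fst).hom.toAlgebra
  letI algRC := ((pullback.snd g b).appLE V' U'' hU'snd).hom.toAlgebra
  letI algAC := ((g.appLE V W' e) ≫ (pullback.fst g b).appLE W' U'' hU'fst).hom.toAlgebra
  letI algDD := (c.appLE W Q hQc).hom.toAlgebra
  letI algRD := (base'.appLE V' Q hQb).hom.toAlgebra
  letI algAD := ((base.appLE V W hWb) ≫ c.appLE W Q hQc).hom.toAlgebra
  haveI : IsScalarTower Γ(S, V) Γ(Y, W') Γ(pullback g b, U'') := IsScalarTower.of_algebraMap_eq' rfl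
  haveI : IsScalarTower Γ(S, V) Γ(S', V') Γ(pullback g b, U'') :=
    IsScalarTower.of_algebraMap_eq' (congrArg CommRingCat.Hom.hom hpoC.w)
  haveI : Algebra.IsPushout Γ(S, V) Γ(S', V') Γ(Y, W') Γ(pullback g b, U'') :=
    CommRingCat.isPushout_iff_isPushout.1 hpoC.flip
  haveI : IsScalarTower Γ(S, V) Γ(fibPow f d, W) Γ(fibPow f' d, Q) := IsScalarTower.of_algebraMap_eq' rfl
  haveI : IsScalarTower Γ(S, V) Γ(S', V') Γ(fibPow f' d, Q) :=
    IsScalarTower.of_algebraMap_eq' (congrArg CommRingCat.Hom.hom hpoD.w)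
  haveI : Algebra.IsPushout Γ(S, V) Γ(S', V') Γ(fibPow f d, W) Γ(fibPow f' d, Q) :=
    CommRingCat.isPushout_iff_isPushout.1 hpoD.flip
  let eC := Algebra.IsPushout.equiv Γ(S, V) Γ(S', V') Γ(Y, W') Γ(pullback g b, U'')
  let eD := Algebra.IsPushout.equiv Γ(S, V) Γ(S', V') Γ(fibPow f d, W) Γ(fibPow f' d, Q)
  have heC : ∀ (r : Γ(S', V')) (x : Γ(Y, W')), eC (r ⊗ₜ[Γ(S, V)] x) =
      algebraMap _ Γ(pullback g b, U'') r * algebraMap _ Γ(pullback g b, U'') x := fun r x => by
    simp [eC, Algebra.IsPushout.equiv_tmul]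
  have heD : ∀ (r : Γ(S', V')) (x : Γ(fibPow f d, W)), eD (r ⊗ₜ[Γ(S, V)] x) =
      algebraMap _ Γ(fibPow f' d, Q) r * algebraMap _ Γ(fibPow f' d, Q) x := fun r x => by
    simp [eD, Algebra.IsPushout.equiv_tmul]
  have sq1 : (pullback.snd g b).appLE V' U'' hU'snd ≫ q'.app U'' = base'.appLE V' Q hQb := by
    rw [Scheme.Hom.app_eq_appLE, Scheme.Hom.appLE_comp_appLE]
    simp only [hq'₂, base', f']
    rfl
  have sq2 : (pullback.fst g b).appLE W' U'' hU'fst ≫ q'.app U'' = q.app W' ≫ c.appLE W Q hQc := by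
    rw [Scheme.Hom.app_eq_appLE, Scheme.Hom.app_eq_appLE, Scheme.Hom.appLE_comp_appLE, Scheme.Hom.appLE_comp_appLE]
    simp only [hq'₁]
    rfl
  have hL : ∀ z, (q'.app U'').hom (eC z) = eD (L.lTensor Γ(S', V') z) := by
    intro z
    induction z using TensorProduct.induction_on with
    | zero => simp only [map_zero]
    | add x y hx hy => simp only [map_add, hx, hy]
    | tmul r x =>
      rw [heC, LinearMap.lTensor_tmul, heD, map_mul]
      exact congrArg₂ (· * ·) (congrArg (fun m => m.hom r) sq1) (congrArg (fun m => m.hom x) sq2)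
  have hEM : L = E.toLinearMap ∘ₗ (PolLib.invSub Γ(S, V) Γ(X, U) d).subtype ∘ₗ M :=
    LinearMap.ext fun a => (E.apply_symm_apply _).symm
  let Me := LinearEquiv.ofBijective M hM
  obtain ⟨hFi, hFr⟩ := PolLib.invSub_lTensor (A := Γ(S, V)) (M := Γ(X, U)) (d := d) Γ(S', V')
  have hLl : ∀ z, L.lTensor Γ(S', V') z = E.toLinearEquiv.lTensor Γ(S', V')
      ((PolLib.invSub Γ(S, V) Γ(X, U) d).subtype.lTensor Γ(S', V') (Me.lTensor Γ(S', V') z)) := fun z => by
    rw [hEM, LinearMap.lTensor_comp_apply, LinearMap.lTensor_comp_apply]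
    rfl
  refine ⟨fun x y h => ?_, fun z hz => ?_⟩
  · obtain ⟨x, rfl⟩ := eC.surjective x
    obtain ⟨y, rfl⟩ := eC.surjective y
    rw [hL, hL, hLl, hLl] at h
    exact congrArg eC ((Me.lTensor Γ(S', V')).injective (hFi ((E.toLinearEquiv.lTensor Γ(S', V')).injective (eD.injective h))))
  · obtain ⟨z, rfl⟩ := eD.surjective z
    obtain ⟨t, rfl⟩ := (E.toLinearEquiv.lTensor Γ(S', V')).surjective z
    have hstab : ∀ σ : Equiv.Perm (Fin d), W ≤ permHom f d σ ⁻¹ᵁ W := fun σ z hz => by
      show q (permHom f d σ z) ∈ W'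
      rw [← Scheme.Hom.comp_apply, ← permActU_hom f d ⟨σ⟩, hq.isQuot.inv ⟨σ⟩]
      exact hz
    have hstab' : ∀ σ : Equiv.Perm (Fin d), Q ≤ permHom f' d σ ⁻¹ᵁ Q := fun σ z hz => by
      have hz' : z ∈ c ⁻¹ᵁ W ⊓ base' ⁻¹ᵁ V' := hQ.le hz
      refine hQ.ge ⟨?_, ?_⟩
      · show c (permHom f' d σ z) ∈ W
        rw [← Scheme.Hom.comp_apply, permHom_comp f d b hcπ hcb, Scheme.Hom.comp_apply]
        exact hstab σ hz'.1
      · show base' (permHom f' d σ z) ∈ V'
        rw [← Scheme.Hom.comp_apply, permHom_base]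
        exact hz'.2
    have hτ : ∀ (σ : Equiv.Perm (Fin d)) t,
        ((permHom f' d σ).appLE Q Q (hstab' σ)).hom (eD (E.toLinearEquiv.lTensor Γ(S', V') t)) =
          eD (E.toLinearEquiv.lTensor Γ(S', V')
            ((PiTensorProduct.reindex Γ(S, V) (fun _ : Fin d => Γ(X, U)) σ⁻¹).toLinearMap.lTensor Γ(S', V') t)) := by
      intro σ t
      induction t using TensorProduct.induction_on with
      | zero => simp only [map_zero]
      | add x y hx hy => simp only [map_add, hx, hy]
      | tmul r x =>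
        simp only [LinearEquiv.lTensor_tmul, LinearMap.lTensor_tmul, heD, map_mul]
        have c1 : base'.appLE V' Q hQb ≫ (permHom f' d σ).appLE Q Q (hstab' σ) = base'.appLE V' Q hQb := by
          rw [Scheme.Hom.appLE_comp_appLE]
          simp only [base', permHom_base]
        have c2 : c.appLE W Q hQc ≫ (permHom f' d σ).appLE Q Q (hstab' σ) =
            (permHom f d σ).appLE W W (hstab σ) ≫ c.appLE W Q hQc := by
          rw [Scheme.Hom.appLE_comp_appLE, Scheme.Hom.appLE_comp_appLE]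
          simp only [f', permHom_comp f d b hcπ hcb]
        refine congrArg₂ (· * ·) (congrArg (fun m => m.hom r) c1) ?_
        refine (congrArg (fun m => m.hom (E x)) c2).trans ?_
        exact congrArg (c.appLE W Q hQc).hom (hperm σ (hstab σ) x)
    obtain ⟨w, hw⟩ := hFr t fun σ => by
      have h := hz σ⁻¹ (hstab' σ⁻¹)
      rw [hτ, inv_inv] at h
      exact (E.toLinearEquiv.lTensor Γ(S', V')).injective (eD.injective h)
    refine ⟨eC ((Me.lTensor Γ(S', V')).symm w), ?_⟩
    rw [hL, hLl, LinearEquiv.apply_symm_apply, hw]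

include hcπ hcb hq'₁ hq'₂ in
/-- **Symmetric products of flat families commute with base change.** -/
theorem isSymProd_baseChange [Flat f] (hAF : IsAF f) (hq : IsSymProd f d q g) :
    IsSymProd (pullback.snd f b) d q' (pullback.snd g b) := by
  have hsq : IsPullback c q' q (pullback.fst g b) := by
    refine IsPullback.of_bot ?_ hq'₁.symm (IsPullback.of_hasPullback g b)
    rw [hq'₂, hq.over]
    exact isPullback_fibPow f d b hcπ hcb
  haveI := hq.isQuot.affine
  have haff : IsAffineHom q' := MorphismProperty.of_isPullback hsq hq.isQuot.affine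
  have hinv : ∀ σ : ULift.{u} (Equiv.Perm (Fin d)), (permActU (pullback.snd f b) d σ).hom ≫ q' = q' := by
    intro σ
    rw [permActU_hom]
    refine pullback.hom_ext ?_ ?_
    · rw [Category.assoc, hq'₁, ← Category.assoc, permHom_comp f d b hcπ hcb, Category.assoc,
        ← permActU_hom f d σ, hq.isQuot.inv σ]
    · rw [Category.assoc, hq'₂, permHom_base]
  refine ⟨SGA1Q.isQuot_of_affine_cover haff hinv fun y' => ?_, hq'₂⟩
  obtain ⟨V, hV, U, hU, hle, -, W', hy, hW'a, e, hW'⟩ := exists_chart f d hAF hq {V | IsAffineOpen V} (fun _ h => h)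
    (fun s => by
      obtain ⟨V, hV, hs, -⟩ := exists_isAffineOpen_mem_and_subset (x := s) (U := ⊤) trivial
      exact ⟨V, hV, hs⟩) (pullback.fst g b y')
  have hs : pullback.snd g b y' ∈ b ⁻¹ᵁ V := by
    show b (pullback.snd g b y') ∈ V
    rw [← Scheme.Hom.comp_apply, ← pullback.condition, Scheme.Hom.comp_apply]
    exact e hy
  obtain ⟨V', hV', hsV', hV'le⟩ := exists_isAffineOpen_mem_and_subset hs
  obtain ⟨h1, h2⟩ := baseChange_chart f d b hcπ hcb hq'₁ hq'₂ hq hU hV hle W' hW'a e hW' V' hV' hV'le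
  exact ⟨_, AmpleX.isAffineOpen_fst_inf_snd g b hV hW'a hV' e hV'le, ⟨hy, hsV'⟩, h1,
    fun z hz => h2 z fun σ _ => by simpa only [permActU_hom] using hz ⟨σ⟩⟩

end Groth.Agent.SymChart
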