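import Groth.Agent.SymChart.Basic
import Groth.Agent.PolLib.FlatTS
import Mathlib.RingTheory.PiTensorProduct
import Mathlib.AlgebraicGeometry.Morphisms.Flat

/-! # Sections of boxes are tensor powers; flatness of symmetric products -/

set_option autoImplicit false
set_option backward.isDefEq.respectTransparency false
set_option backward.isDefEq.respectTransparency.types false
set_option linter.style.haveILetI false
set_option maxHeartbeats 1000000

universe u

open CategoryTheory CategoryTheory.Limits AlgebraicGeometry TopologicalSpace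
open SymProd
open scoped TensorProduct

namespace Groth.Agent.SymChart

variable {X S : Scheme.{u}} (f : X ⟶ S) (d : ℕ) {U : X.Opens} {V : S.Opens}

/-- The flatness of the quotient of a box. -/
theorem flat_appLE_chart [Flat f] {Y : Scheme.{u}} {q : fibPow f d ⟶ Y} {g : Y ⟶ S}
    (hq : IsSymProd f d q g) (hU : IsAffineOpen U) (hV : IsAffineOpen V) (hle : U ≤ f ⁻¹ᵁ V)
    (W' : Y.Opens) (e : W' ≤ g ⁻¹ᵁ V) (hW' : q ⁻¹ᵁ W' = box f d U V) :
    (g.appLE V W' e).hom.Flat := by
  classical
  have hW := isAffineOpen_box f d hU hV hle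
  rw [← hW'] at hW
  let W := q ⁻¹ᵁ W'
  let base := WidePullback.base (fun _ : Fin d => f)
  let pr : Fin d → (fibPow f d ⟶ X) := fun i => WidePullback.π (fun _ : Fin d => f) i
  have hpr : ∀ i, pr i ≫ f = base := fun i => WidePullback.π_arrow _ i
  have hmem : ∀ z ∈ W, base z ∈ V ∧ ∀ i, pr i z ∈ U := fun z hz => (mem_box f d).1 (hW' ▸ hz)
  have hWi : ∀ i, W ≤ pr i ⁻¹ᵁ U := fun i z hz => (hmem z hz).2 i
  have hWb : W ≤ base ⁻¹ᵁ V := fun z hz => (hmem z hz).1
  let _ : Algebra Γ(S, V) Γ(X, U) := (f.appLE V U hle).hom.toAlgebra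
  let _ : Algebra Γ(S, V) Γ(fibPow f d, W) := (base.appLE V W hWb).hom.toAlgebra
  let _ : Algebra Γ(S, V) Γ(Y, W') := (g.appLE V W' e).hom.toAlgebra
  haveI : Module.Flat Γ(S, V) Γ(X, U) := HasRingHomProperty.appLE @Flat f ‹_› ⟨V, hV⟩ ⟨U, hU⟩ hle
  let ι : Fin d → (Γ(X, U) →ₐ[Γ(S, V)] Γ(fibPow f d, W)) := fun i =>
    { ((pr i).appLE U W (hWi i)).hom with
      commutes' := fun a => by
        show ((f.appLE V U hle) ≫ (pr i).appLE U W (hWi i)).hom a = (base.appLE V W hWb).hom a
        rw [Scheme.Hom.appLE_comp_appLE]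
        simp only [hpr] }
  let Φ : (⨂[Γ(S, V)] _ : Fin d, Γ(X, U)) →ₐ[Γ(S, V)] Γ(fibPow f d, W) :=
    PiTensorProduct.liftAlgHom
      ((MultilinearMap.mkPiAlgebra Γ(S, V) (Fin d) Γ(fibPow f d, W)).compLinearMap fun i => (ι i).toLinearMap)
      (by simp) (fun x y => by simp [Finset.prod_mul_distrib])
  have hΦ : ∀ b : Fin d → Γ(X, U), Φ (PiTensorProduct.tprod _ b) = ∏ i, ι i (b i) := fun b => by
    simp [Φ]
  have hΦs : ∀ i, Φ.comp (PiTensorProduct.singleAlgHom i) = ι i := fun i => AlgHom.ext fun a => by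
    simp only [AlgHom.comp_apply, PiTensorProduct.singleAlgHom_apply, MonoidHom.mulSingle_apply, hΦ]
    rw [Finset.prod_eq_single i (fun j _ hj => by rw [Pi.mulSingle_eq_of_ne hj, map_one])
      (fun h => absurd (Finset.mem_univ i) h), Pi.mulSingle_eq_same]
  let T := ⨂[Γ(S, V)] _ : Fin d, Γ(X, U)
  let sgl : Fin d → (Γ(X, U) ⟶ CommRingCat.of T) := fun i =>
    CommRingCat.ofHom (PiTensorProduct.singleAlgHom (R := Γ(S, V)) (A := fun _ : Fin d => Γ(X, U)) i).toRingHom
  let c : Spec (CommRingCat.of T) ⟶ fibPow f d :=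
    WidePullback.lift (Spec.map (CommRingCat.ofHom (algebraMap Γ(S, V) T)) ≫ hV.fromSpec)
      (fun i => Spec.map (sgl i) ≫ hU.fromSpec) fun i => by
        rw [Category.assoc, ← IsAffineOpen.SpecMap_appLE_fromSpec f hV hU hle, ← Category.assoc,
          ← Spec.map_comp]
        congr 2
        ext1
        exact AlgHom.comp_algebraMap (PiTensorProduct.singleAlgHom (R := Γ(S, V)) (A := fun _ : Fin d => Γ(X, U)) i)
  have hc : Set.range c ⊆ Set.range hW.fromSpec := by
    rintro _ ⟨z, rfl⟩
    rw [hW.range_fromSpec, hW']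
    refine (mem_box f d).2 ⟨?_, fun i => ?_⟩
    · rw [← Scheme.Hom.comp_apply, WidePullback.lift_base, Scheme.Hom.comp_apply, ← SetLike.mem_coe,
        ← hV.range_fromSpec]
      exact ⟨_, rfl⟩
    · rw [← Scheme.Hom.comp_apply, WidePullback.lift_π, Scheme.Hom.comp_apply, ← SetLike.mem_coe,
        ← hU.range_fromSpec]
      exact ⟨_, rfl⟩
  obtain ⟨ψ, hψ⟩ := Spec.map_surjective (IsOpenImmersion.lift hW.fromSpec c hc)
  have hψc : Spec.map ψ ≫ hW.fromSpec = c := by rw [hψ, IsOpenImmersion.lift_fac]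
  have hψι : ∀ i, (pr i).appLE U W (hWi i) ≫ ψ = sgl i := fun i => by
    apply Spec.map_injective
    rw [← cancel_mono hU.fromSpec, Spec.map_comp, Category.assoc,
      IsAffineOpen.SpecMap_appLE_fromSpec (pr i) hU hW (hWi i), ← Category.assoc, hψc, WidePullback.lift_π]
  have hψb : base.appLE V W hWb ≫ ψ = CommRingCat.ofHom (algebraMap Γ(S, V) T) := by
    apply Spec.map_injective
    rw [← cancel_mono hV.fromSpec, Spec.map_comp, Category.assoc,
      IsAffineOpen.SpecMap_appLE_fromSpec base hV hW hWb, ← Category.assoc, hψc, WidePullback.lift_base]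
  let ψA : Γ(fibPow f d, W) →ₐ[Γ(S, V)] T :=
    { ψ.hom with commutes' := fun a => congrArg (fun m => m.hom a) hψb }
  have h₁ : ψA.comp Φ = AlgHom.id _ _ := by
    refine PiTensorProduct.algHom_ext fun i => ?_
    rw [AlgHom.comp_assoc, hΦs]
    exact AlgHom.ext fun a => congrArg (fun m => m.hom a) (hψι i)
  have h₂ : ψ ≫ CommRingCat.ofHom Φ.toRingHom = 𝟙 _ := by
    apply Spec.map_injective
    rw [← cancel_mono hW.fromSpec, Spec.map_comp, Category.assoc, hψc, Spec.map_id]
    refine Eq.trans ?_ (Category.id_comp _).symm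
    refine WidePullback.hom_ext _ _ _ (fun i => ?_) ?_
    · rw [Category.assoc, WidePullback.lift_π, ← Category.assoc, ← Spec.map_comp,
        ← IsAffineOpen.SpecMap_appLE_fromSpec (pr i) hU hW (hWi i)]
      congr 2
      ext1
      exact congrArg AlgHom.toRingHom (hΦs i)
    · rw [Category.assoc, WidePullback.lift_base, ← Category.assoc, ← Spec.map_comp,
        ← IsAffineOpen.SpecMap_appLE_fromSpec base hV hW hWb]
      congr 2
      ext1
      exact Φ.comp_algebraMap
  have hbij : Function.Bijective Φ := ⟨fun a b h => by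
      have := congrArg ψA h
      rwa [← AlgHom.comp_apply, ← AlgHom.comp_apply, h₁] at this,
    fun w => ⟨ψA w, congrArg (fun m => m.hom w) h₂⟩⟩
  have hperm : ∀ (σ : Equiv.Perm (Fin d)) (e' : W ≤ permHom f d σ ⁻¹ᵁ W) (t : T),
      ((permHom f d σ).appLE W W e').hom (Φ t) =
        Φ (PiTensorProduct.reindex Γ(S, V) (fun _ : Fin d => Γ(X, U)) σ⁻¹ t) := by
    intro σ e' t
    induction t using PiTensorProduct.induction_on with
    | smul_tprod r b =>
      have hr : ((permHom f d σ).appLE W W e').hom (algebraMap Γ(S, V) Γ(fibPow f d, W) r) =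
          algebraMap Γ(S, V) Γ(fibPow f d, W) r := by
        show (base.appLE V W hWb ≫ (permHom f d σ).appLE W W e').hom r = (base.appLE V W hWb).hom r
        rw [Scheme.Hom.appLE_comp_appLE]
        simp only [base, permHom_base]
      simp only [map_smul, PiTensorProduct.reindex_tprod]
      rw [hΦ, hΦ, Algebra.smul_def, Algebra.smul_def, map_mul, hr, map_prod]
      congr 1
      have key : ∀ i, ((permHom f d σ).appLE W W e').hom (ι i (b i)) = ι (σ⁻¹ i) (b i) := fun i => by
        show ((pr i).appLE U W (hWi i) ≫ (permHom f d σ).appLE W W e').hom (b i) =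
          ((pr (σ⁻¹ i)).appLE U W (hWi _)).hom (b i)
        rw [Scheme.Hom.appLE_comp_appLE]
        simp only [pr, permHom_π]
        rfl
      simp only [key]
      exact Fintype.prod_equiv σ⁻¹ _ _ fun i => by simp [Equiv.Perm.inv_def]
    | add a b ha hb => simp only [map_add, ha, hb]
  let E : (⨂[Γ(S, V)] _ : Fin d, Γ(X, U)) ≃ₐ[Γ(S, V)] Γ(fibPow f d, W) := AlgEquiv.ofBijective Φ hbij
  let L : Γ(Y, W') →ₗ[Γ(S, V)] Γ(fibPow f d, W) :=
    { toFun := fun a => (q.app W').hom a
      map_add' := fun a b => map_add _ a b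
      map_smul' := fun r a => by
        show (q.app W').hom (r • a) = r • (q.app W').hom a
        rw [Algebra.smul_def, Algebra.smul_def, map_mul]
        congr 1
        show (g.appLE V W' e ≫ q.app W').hom r = (base.appLE V W hWb).hom r
        rw [Scheme.Hom.app_eq_appLE, Scheme.Hom.appLE_comp_appLE]
        simp only [base, hq.over]
        rfl }
  have hrange : ∀ t, Φ t ∈ Set.range L ↔ t ∈ PolLib.invSub Γ(S, V) Γ(X, U) d := by
    intro t
    rw [PolLib.mem_invSub, show Set.range L = Set.range (q.app W').hom from rfl, hq.isQuot.range_iff W' (Φ t)]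
    constructor
    · intro h σ
      have := h ⟨σ⁻¹⟩
      simp only [permActU_hom] at this
      exact hbij.1 (by simpa using (hperm σ⁻¹ _ t).symm.trans this)
    · intro h σ
      simp only [permActU_hom]
      rw [hperm, h]
  let M : Γ(Y, W') →ₗ[Γ(S, V)] PolLib.invSub Γ(S, V) Γ(X, U) d :=
    (E.symm.toLinearMap ∘ₗ L).codRestrict _ fun a => (hrange _).1 ⟨a, (E.apply_symm_apply _).symm⟩
  have hM : Function.Bijective M := by
    refine ⟨fun a b h => hq.isQuot.injective W' (E.symm.injective (congrArg Subtype.val h)), fun t => ?_⟩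
    obtain ⟨a, ha⟩ := (hrange t.1).2 t.2
    exact ⟨a, Subtype.ext ((congrArg E.symm ha).trans (E.symm_apply_apply _))⟩
  haveI := PolLib.flat_invSub (A := Γ(S, V)) (M := Γ(X, U)) (d := d)
  exact Module.Flat.of_linearEquiv (LinearEquiv.ofBijective M hM)

theorem flat_symProd [Flat f] (hAF : IsAF f) {Y : Scheme.{u}} {q : fibPow f d ⟶ Y} {g : Y ⟶ S}
    (hq : IsSymProd f d q g) : Flat g := by
  choose V hV U hU hle _ W' hy hW' e hq' using
    exists_chart f d hAF hq {V | IsAffineOpen V} (fun _ h => h)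
      fun s => by
        obtain ⟨V, hV, hs, -⟩ := exists_isAffineOpen_mem_and_subset (x := s) (U := ⊤) trivial
        exact ⟨V, hV, hs⟩
  refine IsZariskiLocalAtSource.of_iSup_eq_top W' (top_unique fun y _ => Opens.mem_iSup.2 ⟨y, hy y⟩) fun y => ?_
  have h := flat_appLE_chart f d hq (hU y) (hV y) (hle y) (W' y) (e y) (hq' y)
  haveI : IsAffine (V y : Scheme.{u}) := hV y
  haveI : IsAffine (W' y : Scheme.{u}) := hW' y
  haveI : Flat (g.resLE (V y) (W' y) (e y)) := by
    rw [HasRingHomProperty.iff_of_isAffine (P := @Flat)]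
    exact (RingHom.Flat.respectsIso.arrow_mk_iso_iff (arrowResLEAppIso g (V y) (W' y) (e y))).2 h
  rw [← Scheme.Hom.resLE_comp_ι g (e y)]
  infer_instance

end Groth.Agent.SymChart
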