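import Groth.Prelude.Def_SymProd
import Groth.Agent.AffineNhd.Union
import Groth.Agent.SGA1Q.Properties

/-! # Affine charts of symmetric products -/

set_option autoImplicit false
set_option backward.isDefEq.respectTransparency false
set_option backward.isDefEq.respectTransparency.types false
set_option linter.style.haveILetI false
set_option maxHeartbeats 1000000

universe u

open CategoryTheory CategoryTheory.Limits AlgebraicGeometry TopologicalSpace
open SymProd

namespace Groth.Agent.SymChart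

variable {X S : Scheme.{u}} (f : X ⟶ S) (d : ℕ)

/-- The open `U^d` over `V` of the fibre power. -/
noncomputable def box (U : X.Opens) (V : S.Opens) : (fibPow f d).Opens :=
  WidePullback.base (fun _ : Fin d => f) ⁻¹ᵁ V ⊓
    (Finset.univ.inf fun i : Fin d => WidePullback.π (fun _ : Fin d => f) i ⁻¹ᵁ U)

theorem mem_box {U : X.Opens} {V : S.Opens} {z : fibPow f d} :
    z ∈ box f d U V ↔ WidePullback.base (fun _ : Fin d => f) z ∈ V ∧
      ∀ i : Fin d, WidePullback.π (fun _ : Fin d => f) i z ∈ U := by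
  refine and_congr Iff.rfl ?_
  rw [SetLike.mem_coe, ← SetLike.mem_coe, TopologicalSpace.Opens.coe_finset_inf]
  simp

theorem isAffineOpen_box {U' : X.Opens} {V : S.Opens} (hU' : IsAffineOpen U') (hV : IsAffineOpen V)
    (hle : U' ≤ f ⁻¹ᵁ V) : IsAffineOpen (box f d U' V) := by
  classical
  let pr : Fin d → (fibPow f d ⟶ X) := fun i => WidePullback.π (fun _ : Fin d => f) i
  have hpr : ∀ i, pr i ≫ f = WidePullback.base (fun _ : Fin d => f) := fun i => WidePullback.π_arrow _ i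
  let base := WidePullback.base (fun _ : Fin d => f)
  let O := box f d U' V
  have hOi : ∀ (i : Fin d) (z : fibPow f d), z ∈ O → pr i z ∈ U' := fun i z hz =>
    ((mem_box f d).1 hz).2 i
  let g : (U' : Scheme.{u}) ⟶ (V : Scheme.{u}) := f.resLE V U' hle
  have hg : g ≫ V.ι = U'.ι ≫ f := Scheme.Hom.resLE_comp_ι _ _
  haveI : IsAffine (V : Scheme.{u}) := hV
  haveI : IsAffine (U' : Scheme.{u}) := hU'
  haveI : IsAffine (widePullback (V : Scheme.{u}) (fun _ : Fin d => (U' : Scheme.{u})) (fun _ => g)) := by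
    haveI : ∀ j, IsAffine ((WidePullbackShape.wideCospan (V : Scheme.{u}) (fun _ : Fin d => (U' : Scheme.{u})) (fun _ => g)).obj j) := by
      rintro (_ | j)
      · exact inferInstanceAs (IsAffine (V : Scheme.{u}))
      · exact inferInstanceAs (IsAffine (U' : Scheme.{u}))
    exact Scheme.isAffine_of_isLimit _ (limit.isLimit (WidePullbackShape.wideCospan (V : Scheme.{u}) (fun _ : Fin d => (U' : Scheme.{u})) (fun _ => g)))
  let q : ∀ i : Fin d, (O : Scheme.{u}) ⟶ (U' : Scheme.{u}) := fun i =>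
    IsOpenImmersion.lift U'.ι (O.ι ≫ pr i) (by
      rintro _ ⟨z, rfl⟩
      rw [Scheme.Opens.range_ι]
      exact hOi i z.1 z.2)
  have hq : ∀ i, q i ≫ U'.ι = O.ι ≫ pr i := fun i => IsOpenImmersion.lift_fac _ _ _
  let qb : (O : Scheme.{u}) ⟶ (V : Scheme.{u}) := base.resLE V O inf_le_left
  have hqb : qb ≫ V.ι = O.ι ≫ base := Scheme.Hom.resLE_comp_ι _ _
  let a : (O : Scheme.{u}) ⟶ widePullback (V : Scheme.{u}) (fun _ : Fin d => (U' : Scheme.{u})) (fun _ => g) :=
    WidePullback.lift qb q fun i => by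
      rw [← cancel_mono V.ι, Category.assoc, hg, reassoc_of% (hq i), hpr, hqb]
  let b₀ : widePullback (V : Scheme.{u}) (fun _ : Fin d => (U' : Scheme.{u})) (fun _ => g) ⟶ fibPow f d :=
    WidePullback.lift (WidePullback.base (fun _ : Fin d => g) ≫ V.ι) (fun i => WidePullback.π (fun _ : Fin d => g) i ≫ U'.ι)
      fun i => by rw [Category.assoc, ← hg, WidePullback.π_arrow_assoc]
  have hb₀ : Set.range b₀ ⊆ Set.range O.ι := by
    rintro _ ⟨z, rfl⟩
    rw [Scheme.Opens.range_ι]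
    refine ⟨?_, ?_⟩
    · show (b₀ ≫ base) z ∈ V
      rw [WidePullback.lift_base]
      exact (WidePullback.base (fun _ : Fin d => g) z).2
    · rw [SetLike.mem_coe, ← SetLike.mem_coe, TopologicalSpace.Opens.coe_finset_inf]
      simp only [Finset.mem_univ, Set.iInf_eq_iInter, Set.iInter_true, Set.mem_iInter, Finset.inf_eq_iInf, Function.comp]
      intro i
      show (b₀ ≫ pr i) z ∈ U'
      rw [WidePullback.lift_π]
      exact (WidePullback.π (fun _ : Fin d => g) i z).2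
  let b := IsOpenImmersion.lift O.ι b₀ hb₀
  have hb : b ≫ O.ι = b₀ := IsOpenImmersion.lift_fac _ _ _
  haveI : IsIso a := ⟨b, by
    rw [← cancel_mono O.ι, Category.assoc, hb, Category.id_comp]
    refine WidePullback.hom_ext _ _ _ (fun i => ?_) ?_
    · rw [Category.assoc, WidePullback.lift_π, WidePullback.lift_π_assoc, hq]
    · rw [Category.assoc, WidePullback.lift_base, WidePullback.lift_base_assoc, hqb], by
    refine WidePullback.hom_ext _ _ _ (fun i => ?_) ?_
    · rw [Category.id_comp, Category.assoc, WidePullback.lift_π, ← cancel_mono U'.ι, Category.assoc, hq,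
        reassoc_of% hb, WidePullback.lift_π]
    · rw [Category.id_comp, Category.assoc, WidePullback.lift_base, ← cancel_mono V.ι, Category.assoc, hqb,
        reassoc_of% hb, WidePullback.lift_base]⟩
  exact show IsAffine (O : Scheme.{u}) from IsAffine.of_isIso a

variable {Y : Scheme.{u}} {q : fibPow f d ⟶ Y} {g : Y ⟶ S}

/-- A symmetric product is covered by quotients of boxes. -/
theorem exists_chart (hAF : IsAF f) (hq : IsSymProd f d q g) (𝒮 : Set S.Opens)
    (h𝒮 : ∀ V ∈ 𝒮, IsAffineOpen V) (hcov : ∀ s : S, ∃ V ∈ 𝒮, s ∈ V) (y : Y) :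
    ∃ V ∈ 𝒮, ∃ U : X.Opens, IsAffineOpen U ∧ U ≤ f ⁻¹ᵁ V ∧
      (∀ σ : Equiv.Perm (Fin d), permHom f d σ ⁻¹ᵁ box f d U V = box f d U V) ∧
      ∃ W' : Y.Opens, y ∈ W' ∧ IsAffineOpen W' ∧ W' ≤ g ⁻¹ᵁ V ∧ q ⁻¹ᵁ W' = box f d U V := by
  classical
  haveI := hq.isQuot.affine
  obtain ⟨x, rfl⟩ := SGA1Q.surjective hq.isQuot y
  obtain ⟨V, hV, hsV⟩ := hcov (WidePullback.base (fun _ : Fin d => f) x)
  let T : Finset X := Finset.univ.image fun i : Fin d => WidePullback.π (fun _ : Fin d => f) i x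
  have hT : ∀ z ∈ T, f z = WidePullback.base (fun _ : Fin d => f) x := fun z hz => by
    obtain ⟨i, -, rfl⟩ := Finset.mem_image.1 hz
    rw [← Scheme.Hom.comp_apply, WidePullback.π_arrow]
  obtain ⟨U, hU, hUT⟩ := hAF _ T hT
  obtain ⟨h, hle, hmem⟩ := AffineNhd.exists_basicOpen_finset hU T hUT (f ⁻¹ᵁ V)
    fun z hz => show f z ∈ V from (hT z hz).symm ▸ hsV
  let W := box f d (X.basicOpen h) V
  have hW : IsAffineOpen W := isAffineOpen_box f d (hU.basicOpen h) (h𝒮 V hV) hle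
  have hst : ∀ σ : Equiv.Perm (Fin d), permHom f d σ ⁻¹ᵁ W = W := by
    intro σ
    ext z
    change permHom f d σ z ∈ W ↔ z ∈ W
    simp only [W, mem_box, ← Scheme.Hom.comp_apply, permHom_base, permHom_π]
    exact and_congr Iff.rfl ⟨fun h i => by simpa using h (σ i), fun h i => h _⟩
  have hxW : x ∈ W := (mem_box f d).2 ⟨hsV, fun i => hmem _ (Finset.mem_image.2 ⟨i, Finset.mem_univ _, rfl⟩)⟩
  haveI := SGA1Q.isIntegralHom hq.isQuot
  let W' : Y.Opens := ⟨(q '' (W : Set _)ᶜ)ᶜ, (q.isClosedMap _ W.2.isClosed_compl).isOpen_compl⟩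
  have hWW : q ⁻¹ᵁ W' = W := by
    ext z
    change q z ∈ (q '' (W : Set _)ᶜ)ᶜ ↔ z ∈ W
    refine ⟨fun hz => by_contra fun hzW => hz ⟨z, hzW, rfl⟩, fun hz ⟨z', hz', he⟩ => hz' ?_⟩
    obtain ⟨σ, rfl⟩ := (SGA1Q.orbit_iff hq.isQuot z' z).1 he
    exact (congrArg (fun O : (fibPow f d).Opens => z' ∈ O) (hst σ.down)).mp hz
  have hxW' : q x ∈ W' := show x ∈ q ⁻¹ᵁ W' by rw [hWW]; exact hxW
  have hstab : ∀ σ : ULift.{u} (Equiv.Perm (Fin d)), q ⁻¹ᵁ W' ≤ (permActU f d σ).hom ⁻¹ᵁ (q ⁻¹ᵁ W') := by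
    intro σ
    rw [hWW, permActU_hom, hst]
  have hW'a : IsAffineOpen W' := by
    haveI : IsAffine (q ⁻¹ᵁ W').toScheme := by rw [hWW]; exact hW
    exact SGA1Q.isAffine_of_isQuot (SGA1Q.isQuot_morphismRestrict hq.isQuot W'
      (SGA1Q.restrictAction _ _ hstab) (SGA1Q.restrictAction_hom_ι _ _ hstab))
  refine ⟨V, hV, X.basicOpen h, hU.basicOpen h, hle, hst, W', hxW', hW'a, fun z hz => ?_, hWW⟩
  obtain ⟨z, rfl⟩ := SGA1Q.surjective hq.isQuot z
  have : z ∈ W := hWW ▸ (hz : z ∈ q ⁻¹ᵁ W')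
  show g (q z) ∈ V
  rw [← Scheme.Hom.comp_apply, hq.over]
  exact ((mem_box f d).1 this).1

end Groth.Agent.SymChart
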